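import Mathlib
import Cfsg.Agent.Lib.Helper51.TIH.Defs

/-!
# TIH (S4118), package [EXT]: `G` is solvable when `O` (normal) and `H` are solvable and
`G / O H` is abelian.
-/

set_option autoImplicit false

namespace Cfsg.Agent.Lib.Helper7.TIH

open Cfsg.Agent.Lib.Helper51.TIH

open scoped Pointwise

universe u

/-- `O H` is solvable when `O` is normal and `O`, `H` are solvable. -/
theorem sup_solvable {G : Type u} [Group G] (H O : Subgroup G) [hO : O.Normal]
    (hOs : Group.IsSolvable O) (hHs : Group.IsSolvable H) : Group.IsSolvable ↥(O ⊔ H) := by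
  let φ : ↥(O ⊔ H) →* G ⧸ O := (QuotientGroup.mk' O).comp (O ⊔ H).subtype
  -- the image of `H` in `G ⧸ O` is solvable
  have hmap : Group.IsSolvable ↥(H.map (QuotientGroup.mk' O)) :=
    Group.isSolvable_of_surjective (f := (QuotientGroup.mk' O).subgroupMap H)
      ((QuotientGroup.mk' O).subgroupMap_surjective H)
  have hle : φ.range ≤ H.map (QuotientGroup.mk' O) := by
    rintro _ ⟨⟨x, hx⟩, rfl⟩
    have hset : ((O ⊔ H : Subgroup G) : Set G) = (O : Set G) * (H : Set G) :=
      Subgroup.normal_mul O H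
    have hx' : x ∈ ((O ⊔ H : Subgroup G) : Set G) := hx
    rw [hset] at hx'
    obtain ⟨o, ho, h, hh, rfl⟩ := hx'
    refine ⟨h, hh, ?_⟩
    show (QuotientGroup.mk' O) h = (QuotientGroup.mk' O) (o * h)
    rw [map_mul]
    have : (QuotientGroup.mk' O) o = 1 := (QuotientGroup.eq_one_iff o).mpr ho
    rw [this, one_mul]
  have hrange : Group.IsSolvable ↥φ.range :=
    Group.isSolvable_of_isSolvable_injective (f := Subgroup.inclusion hle) (Subgroup.inclusion_injective hle)
  refine Group.isSolvable_of_ker_le_range (Subgroup.inclusion (le_sup_left : O ≤ O ⊔ H)) φ.rangeRestrict ?_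
  intro x hx
  have hx1 : φ x = 1 := by
    have := congrArg Subtype.val (MonoidHom.mem_ker.mp hx)
    simpa using this
  have hxO : (x : G) ∈ O := (QuotientGroup.eq_one_iff (x : G)).mp hx1
  exact ⟨⟨(x : G), hxO⟩, Subtype.ext rfl⟩

/-- **[EXT]** -/
theorem pkgExt : PkgExt.{u} := by
  intro G _ _ H O hO hOs hHs hcomm
  have hK : Group.IsSolvable ↥(O ⊔ H) := sup_solvable H O hOs hHs
  refine Group.isSolvable_of_ker_le_range (O ⊔ H).subtype (Abelianization.of : G →* Abelianization G) ?_
  rw [Abelianization.ker_of, Subgroup.range_subtype]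
  exact hcomm

end Cfsg.Agent.Lib.Helper7.TIH
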