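import Mathlib
import Cfsg.Agent.Lib.Helper51.TIH.Defs

/-!
# TIH (S4118), package [NORMAL]: `O H` is normal when `G = O N_G(H)`.
-/

set_option autoImplicit false

namespace Cfsg.Agent.Lib.Helper7.TIH

open Cfsg.Agent.Lib.Helper51.TIH

open scoped Pointwise

universe u

theorem conj_mem_sup_of_mem_normalizer {G : Type u} [Group G] (H O : Subgroup G) [hO : O.Normal]
    {m : G} (hm : m ∈ Subgroup.normalizer (H : Set G)) {n : G} (hn : n ∈ O ⊔ H) :
    m * n * m⁻¹ ∈ O ⊔ H := by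
  have hset : ((O ⊔ H : Subgroup G) : Set G) = (O : Set G) * (H : Set G) := Subgroup.normal_mul O H
  have hn' : n ∈ ((O ⊔ H : Subgroup G) : Set G) := hn
  rw [hset] at hn'
  obtain ⟨o, ho, h, hh, rfl⟩ := hn'
  have h1 : m * o * m⁻¹ ∈ O := hO.conj_mem o ho m
  have h2 : m * h * m⁻¹ ∈ H := (Subgroup.mem_normalizer_iff.mp hm h).mp hh
  have : m * (o * h) * m⁻¹ = (m * o * m⁻¹) * (m * h * m⁻¹) := by group
  rw [this]
  exact (O ⊔ H).mul_mem (Subgroup.mem_sup_left h1) (Subgroup.mem_sup_right h2)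

/-- **[NORMAL]** -/
theorem pkgNormal : PkgNormal.{u} := by
  intro G _ _ H O hO htop
  refine ⟨fun n hn g => ?_⟩
  have hg : g ∈ (O ⊔ Subgroup.normalizer (H : Set G) : Subgroup G) := by rw [htop]; trivial
  have hset : ((O ⊔ Subgroup.normalizer (H : Set G) : Subgroup G) : Set G)
      = (O : Set G) * (Subgroup.normalizer (H : Set G) : Set G) := Subgroup.normal_mul O _
  have hg' : g ∈ ((O ⊔ Subgroup.normalizer (H : Set G) : Subgroup G) : Set G) := hg
  rw [hset] at hg'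
  obtain ⟨u, hu, m, hm, rfl⟩ := hg'
  have h1 : m * n * m⁻¹ ∈ O ⊔ H := conj_mem_sup_of_mem_normalizer H O hm hn
  have hu' : u ∈ O ⊔ H := Subgroup.mem_sup_left hu
  have : u * m * n * (u * m)⁻¹ = u * (m * n * m⁻¹) * u⁻¹ := by group
  rw [this]
  exact (O ⊔ H).mul_mem ((O ⊔ H).mul_mem hu' h1) ((O ⊔ H).inv_mem hu')

end Cfsg.Agent.Lib.Helper7.TIH
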